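import Cfsg.Agent.H29.RuLattice.Data

set_option autoImplicit false

/-!
The lattice modulo four as a set of integer lists, closed under signed permutations.
-/

namespace CfsgLib.H29.RuLattice

/-- Entrywise sum, the shorter list padded with zeros. -/
def addL : List ℤ → List ℤ → List ℤ
  | [], ys => ys
  | xs, [] => xs
  | x :: xs, y :: ys => (x + y) :: addL xs ys

/-- Equality modulo four. -/
def eq4 : List ℤ → List ℤ → Bool
  | [], [] => true
  | x :: xs, y :: ys => ((x - y) % 4 == 0) && eq4 xs ys
  | _, _ => false

/-- A linear combination of rows. -/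
def comb : List (ℕ × ℤ) → List ℤ
  | [] => List.replicate 56 0
  | (i, q) :: cs => addL ((rows.getD i []).map (q * ·)) (comb cs)

/-- A signed permutation of coordinates. -/
def permL (P : List (ℕ × Bool)) (l : List ℤ) : List ℤ :=
  P.map fun js => if js.2 then -(l.getD js.1 0) else l.getD js.1 0

theorem length_addL : ∀ (a b : List ℤ), a.length = b.length → (addL a b).length = a.length
  | [], [], _ => rfl
  | x :: xs, y :: ys, h => by
    simp only [List.length_cons, Nat.add_right_cancel_iff] at h
    simp [addL, length_addL xs ys h]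

theorem getD_addL : ∀ (a b : List ℤ) (k : ℕ), (addL a b).getD k 0 = a.getD k 0 + b.getD k 0
  | [], ys, k => by simp [addL]
  | x :: xs, [], k => by simp [addL]
  | x :: xs, y :: ys, 0 => by simp [addL]
  | x :: xs, y :: ys, k + 1 => by
    simp only [addL, List.getD_cons_succ]; exact getD_addL xs ys k

theorem getD_map_mul (c : ℤ) (l : List ℤ) (k : ℕ) : (l.map (c * ·)).getD k 0 = c * l.getD k 0 := by
  induction l generalizing k with
  | nil => simp
  | cons a l ih => cases k with
    | zero => simp
    | succ k => simpa using ih k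

theorem ext_getD : ∀ (a b : List ℤ), a.length = b.length → (∀ k, a.getD k 0 = b.getD k 0) → a = b
  | [], [], _, _ => rfl
  | x :: xs, y :: ys, h, e => by
    have h0 := e 0
    simp only [List.getD_cons_zero] at h0
    rw [h0, ext_getD xs ys (by simpa using h) fun k => by simpa using e (k + 1)]

/-- The lattice modulo four. -/
inductive M : List ℤ → Prop
  | row (r : List ℤ) : r ∈ rows → M r
  | zero : M (List.replicate 56 0)
  | add (a b : List ℤ) : M a → M b → M (addL a b)
  | smul (c : ℤ) (a : List ℤ) : M a → M (a.map (c * ·))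
  | four (w : List ℤ) : w.length = 56 → M (w.map (4 * ·))

theorem rows_length : ∀ r ∈ rows, r.length = 56 := by decide +kernel

theorem M.length {l : List ℤ} (h : M l) : l.length = 56 := by
  induction h with
  | row r hr => exact rows_length r hr
  | zero => simp
  | add a b _ _ ha hb => rw [length_addL a b (ha.trans hb.symm), ha]
  | smul c a _ ha => simpa using ha
  | four w hw => simpa using hw

theorem eq4_split : ∀ (a b : List ℤ), eq4 a b = true →
    ∃ w : List ℤ, w.length = b.length ∧ a = addL b (w.map (4 * ·))
  | [], [], _ => ⟨[], rfl, rfl⟩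
  | [], _ :: _, h => by simp [eq4] at h
  | _ :: _, [], h => by simp [eq4] at h
  | x :: xs, y :: ys, h => by
    simp only [eq4, Bool.and_eq_true, beq_iff_eq] at h
    obtain ⟨w, hw, e⟩ := eq4_split xs ys h.2
    refine ⟨(x - y) / 4 :: w, by simp [hw], ?_⟩
    simp only [List.map_cons, addL, List.cons.injEq]
    exact ⟨by omega, e⟩

theorem M.of_eq4 {a b : List ℤ} (h : M b) (e : eq4 a b = true) : M a := by
  obtain ⟨w, hw, rfl⟩ := eq4_split a b e
  exact M.add _ _ h (M.four w (hw.trans h.length))

theorem M_comb : ∀ cs : List (ℕ × ℤ), (∀ c ∈ cs, c.1 < rows.length) → M (comb cs)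
  | [], _ => M.zero
  | (i, q) :: cs, h => by
    have hi := h (i, q) (List.mem_cons_self)
    refine M.add _ _ (M.smul q _ (M.row _ ?_)) (M_comb cs fun c hc => h c (List.mem_cons_of_mem _ hc))
    rw [List.getD_eq_getElem?_getD, List.getElem?_eq_getElem hi]
    exact List.getElem_mem hi

/-- The certificate check for one signed permutation. -/
def checkPerm (P : List (ℕ × Bool)) (C : List (List (ℕ × ℤ))) : Bool :=
  P.length == 56 && C.length == rows.length &&
    (rows.zip C).all fun rc => eq4 (permL P rc.1) (comb rc.2) &&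
      rc.2.all fun c => decide (c.1 < rows.length)

theorem getD_permL (P : List (ℕ × Bool)) (l : List ℤ) (k : ℕ) :
    (permL P l).getD k 0 = if h : k < P.length then
      (if (P[k]).2 then -(l.getD (P[k]).1 0) else l.getD (P[k]).1 0) else 0 := by
  split
  · next h => simp [permL, List.getD_eq_getElem?_getD, List.getElem?_map, List.getElem?_eq_getElem h]
  · next h => simp [permL, List.getD_eq_getElem?_getD, List.getElem?_eq_none (Nat.not_lt.1 h)]

theorem M.perm {P : List (ℕ × Bool)} {C : List (List (ℕ × ℤ))} (hC : checkPerm P C = true)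
    {l : List ℤ} (h : M l) : M (permL P l) := by
  simp only [checkPerm, Bool.and_eq_true, beq_iff_eq, List.all_eq_true, decide_eq_true_eq] at hC
  obtain ⟨⟨hP, hlen⟩, hrc⟩ := hC
  have hpl : ∀ a : List ℤ, (permL P a).length = 56 := fun a => by simp [permL, hP]
  induction h with
  | row r hr =>
    obtain ⟨i, hi, rfl⟩ := List.getElem_of_mem hr
    have hmem : (rows[i], C[i]'(hlen ▸ hi)) ∈ rows.zip C := by
      rw [List.mem_iff_getElem]
      exact ⟨i, by simp [hlen, hi], by simp⟩
    exact (M_comb _ (hrc _ hmem).2).of_eq4 (hrc _ hmem).1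
  | zero =>
    convert M.zero using 1
    refine ext_getD _ _ (by rw [hpl]; simp) fun k => ?_
    have hz : ∀ j, (List.replicate 56 (0 : ℤ)).getD j 0 = 0 := fun j => by
      rw [List.getD_eq_getElem?_getD, List.getElem?_replicate]
      split <;> rfl
    rw [getD_permL]
    split <;> simp only [hz, neg_zero, ite_self]
  | add a b ha hb iha ihb =>
    convert M.add _ _ iha ihb using 1
    refine ext_getD _ _ (by rw [length_addL _ _ (by rw [hpl, hpl]), hpl, hpl]) fun k => ?_
    rw [getD_addL, getD_permL, getD_permL, getD_permL]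
    split
    · split <;> rw [getD_addL] <;> ring
    · simp
  | smul c a ha iha =>
    convert M.smul c _ iha using 1
    refine ext_getD _ _ (by simp [hpl]) fun k => ?_
    rw [getD_map_mul, getD_permL, getD_permL]
    split
    · split <;> rw [getD_map_mul] <;> ring
    · simp
  | four w hw =>
    convert M.four (permL P w) (hpl w) using 1
    refine ext_getD _ _ (by simp [hpl]) fun k => ?_
    rw [getD_map_mul, getD_permL, getD_permL]
    split
    · split <;> rw [getD_map_mul] <;> ring
    · simp

theorem checkI : checkPerm permI certI = true := by decide +kernel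
theorem checkJ : checkPerm permJ certJ = true := by decide +kernel
theorem checkK : checkPerm permK certK = true := by decide +kernel
theorem checkS : checkPerm permS certS = true := by decide +kernel
theorem checkH : checkPerm permH certH = true := by decide +kernel

/-- The dot product of two lists. -/
def dotL : List ℤ → List ℤ → ℤ
  | x :: xs, y :: ys => x * y + dotL xs ys
  | _, _ => 0

theorem dotL_comm : ∀ a b : List ℤ, dotL a b = dotL b a
  | [], [] => rfl
  | [], _ :: _ => rfl
  | _ :: _, [] => rfl
  | x :: xs, y :: ys => by simp [dotL, dotL_comm xs ys, mul_comm x y]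

theorem dotL_nil (c : List ℤ) : dotL [] c = 0 := by cases c <;> rfl

theorem dotL_add : ∀ a b c : List ℤ, dotL (addL a b) c = dotL a c + dotL b c
  | [], ys, c => by simp [addL, dotL_nil]
  | x :: xs, [], c => by simp [addL, dotL_nil]
  | x :: xs, y :: ys, [] => by simp [addL, dotL]
  | x :: xs, y :: ys, z :: zs => by simp [addL, dotL, dotL_add xs ys zs]; ring

theorem dotL_smul (c : ℤ) : ∀ a b : List ℤ, dotL (a.map (c * ·)) b = c * dotL a b
  | [], b => by simp [dotL_nil]
  | x :: xs, [] => by simp [dotL]
  | x :: xs, y :: ys => by simp [dotL, dotL_smul c xs ys]; ring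

theorem dotL_zero : ∀ (n : ℕ) (b : List ℤ), dotL (List.replicate n 0) b = 0
  | 0, b => dotL_nil b
  | n + 1, [] => rfl
  | n + 1, y :: ys => by simp [List.replicate_succ, dotL, dotL_zero n ys]

theorem rows_dot : (rows.all fun r => (dotL r r % 8 == 0) &&
    rows.all fun r' => dotL r r' % 4 == 0) = true := by decide +kernel

theorem M.dot_row {l : List ℤ} (h : M l) {r : List ℤ} (hr : r ∈ rows) : 4 ∣ dotL l r := by
  induction h with
  | row r' hr' =>
    have := List.all_eq_true.1 rows_dot r' hr'
    rw [Bool.and_eq_true, List.all_eq_true] at this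
    exact Int.dvd_of_emod_eq_zero (beq_iff_eq.1 (this.2 r hr))
  | zero => rw [dotL_zero]; exact dvd_zero _
  | add a b _ _ ha hb => rw [dotL_add]; exact dvd_add ha hb
  | smul c a _ ha => rw [dotL_smul]; exact dvd_mul_of_dvd_right ha c
  | four w _ => rw [dotL_smul]; exact dvd_mul_right 4 _

theorem M.dot_M {l l' : List ℤ} (h : M l) (h' : M l') : 4 ∣ dotL l l' := by
  rw [dotL_comm]
  induction h' with
  | row r hr => rw [dotL_comm]; exact h.dot_row hr
  | zero => rw [dotL_zero]; exact dvd_zero _
  | add a b _ _ ha hb => rw [dotL_add]; exact dvd_add ha hb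
  | smul c a _ ha => rw [dotL_smul]; exact dvd_mul_of_dvd_right ha c
  | four w _ => rw [dotL_smul]; exact dvd_mul_right 4 _

theorem M.norm_dvd {l : List ℤ} (h : M l) : 8 ∣ dotL l l := by
  induction h with
  | row r hr =>
    have := List.all_eq_true.1 rows_dot r hr
    rw [Bool.and_eq_true] at this
    exact Int.dvd_of_emod_eq_zero (beq_iff_eq.1 this.1)
  | zero => rw [dotL_zero]; exact dvd_zero _
  | add a b hA hB ha hb =>
    rw [dotL_add, dotL_comm a, dotL_comm b, dotL_add, dotL_add, dotL_comm b a]
    obtain ⟨t, ht⟩ := hA.dot_M hB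
    obtain ⟨u, hu⟩ := ha
    obtain ⟨v, hv⟩ := hb
    exact ⟨u + v + t, by rw [ht, hu, hv]; ring⟩
  | smul c a _ ha =>
    rw [dotL_smul, dotL_comm, dotL_smul]
    exact dvd_mul_of_dvd_right (dvd_mul_of_dvd_right ha c) c
  | four w _ =>
    rw [dotL_smul, dotL_comm, dotL_smul]
    exact ⟨2 * dotL w w, by ring⟩

end CfsgLib.H29.RuLattice
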