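import Mathlib

set_option autoImplicit false

/-!
Certificate data for the Rudvalis lattice modulo four.
-/

namespace CfsgLib.H29.RuLattice

/-- Echelon rows spanning the lattice modulo four. -/
def rows : List (List ℤ) := [
  [1, 0, 3, 0, 3, 0, 1, 0, 1, 0, 0, 0, 0, 0, 1, 0, 0, 0, 0, 0, 1, 0, 0, 3, 0, 0, 0, 0, 1, 0, 1, 0, 0, 3, 0, 0, 0, 1, 0, 0, 0, 0, 0, 1, 0, 3, 0, 0, 1, 0, 0, 0, 0, 3, 0, 0],
  [0, 1, 0, 0, 0, 3, 0, 0, 0, 0, 0, 3, 0, 1, 0, 0, 3, 0, 0, 0, 0, 1, 0, 0, 3, 0, 1, 0, 1, 0, 3, 0, 3, 0, 0, 0, 0, 0, 3, 0, 0, 0, 0, 0, 3, 0, 0, 1, 0, 0, 0, 0, 3, 0, 3, 0],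
  [0, 0, 1, 0, 1, 0, 0, 0, 3, 0, 0, 0, 1, 0, 3, 3, 0, 0, 0, 0, 0, 0, 1, 1, 0, 3, 0, 0, 3, 1, 3, 0, 0, 1, 0, 1, 0, 2, 0, 0, 1, 0, 0, 3, 0, 0, 0, 0, 0, 0, 3, 0, 3, 1, 1, 0],
  [0, 0, 0, 1, 0, 3, 0, 0, 1, 0, 0, 0, 0, 3, 0, 0, 1, 0, 3, 0, 3, 0, 1, 0, 1, 0, 0, 0, 0, 0, 1, 0, 0, 0, 0, 0, 1, 0, 0, 3, 0, 0, 0, 0, 1, 0, 1, 0, 0, 3, 0, 0, 0, 1, 0, 0],
  [0, 0, 0, 0, 1, 0, 0, 3, 0, 0, 0, 0, 1, 0, 1, 0, 0, 3, 0, 0, 0, 1, 0, 0, 0, 0, 0, 1, 0, 3, 0, 0, 1, 0, 0, 0, 0, 3, 0, 0, 1, 0, 3, 0, 3, 0, 1, 0, 1, 0, 0, 0, 0, 0, 1, 0],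
  [0, 0, 0, 0, 0, 1, 1, 0, 3, 0, 1, 0, 2, 0, 3, 3, 3, 0, 0, 0, 1, 0, 0, 0, 0, 3, 0, 0, 3, 1, 0, 1, 0, 0, 0, 1, 3, 3, 3, 0, 1, 1, 0, 0, 0, 2, 0, 0, 1, 0, 3, 3, 3, 1, 1, 0],
  [0, 0, 0, 0, 0, 0, 1, 1, 0, 3, 0, 0, 3, 1, 3, 0, 0, 1, 0, 1, 0, 2, 0, 0, 1, 0, 0, 3, 0, 0, 0, 0, 0, 0, 3, 0, 3, 1, 1, 0, 0, 0, 1, 0, 1, 0, 0, 0, 3, 0, 0, 0, 1, 0, 3, 3],
  [0, 0, 0, 0, 0, 0, 0, 2, 1, 3, 3, 1, 0, 0, 2, 0, 3, 2, 0, 1, 3, 0, 1, 2, 1, 0, 3, 2, 3, 0, 0, 3, 0, 2, 0, 0, 0, 0, 0, 0, 3, 3, 3, 3, 3, 1, 3, 3, 1, 1, 0, 2, 2, 0, 3, 3],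
  [0, 0, 0, 0, 0, 0, 0, 0, 1, 3, 0, 0, 3, 1, 0, 2, 3, 0, 0, 1, 3, 2, 3, 0, 1, 2, 1, 0, 0, 1, 1, 0, 1, 0, 0, 3, 3, 0, 1, 0, 0, 1, 0, 1, 0, 1, 1, 0, 3, 1, 0, 0, 2, 0, 3, 3],
  [0, 0, 0, 0, 0, 0, 0, 0, 0, 1, 3, 2, 2, 1, 2, 3, 2, 3, 2, 3, 3, 2, 2, 1, 2, 3, 1, 0, 3, 0, 3, 0, 1, 2, 3, 2, 3, 0, 0, 1, 3, 0, 0, 1, 2, 3, 0, 1, 3, 0, 2, 3, 0, 1, 0, 1],
  [0, 0, 0, 0, 0, 0, 0, 0, 0, 0, 1, 3, 0, 0, 1, 1, 3, 0, 1, 0, 2, 3, 1, 2, 0, 1, 0, 1, 1, 2, 2, 1, 2, 3, 3, 2, 1, 2, 3, 0, 0, 0, 1, 3, 2, 2, 3, 1, 0, 1, 1, 2, 1, 0, 1, 0],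
  [0, 0, 0, 0, 0, 0, 0, 0, 0, 0, 0, 2, 0, 2, 0, 0, 0, 0, 0, 0, 0, 0, 0, 0, 0, 0, 0, 0, 0, 0, 0, 0, 0, 0, 0, 0, 0, 0, 0, 0, 0, 0, 0, 0, 2, 0, 0, 2, 0, 0, 0, 0, 2, 0, 2, 0],
  [0, 0, 0, 0, 0, 0, 0, 0, 0, 0, 0, 0, 1, 3, 1, 1, 1, 0, 2, 1, 3, 0, 3, 0, 1, 2, 3, 2, 1, 2, 0, 3, 0, 2, 0, 0, 0, 0, 2, 0, 2, 0, 0, 2, 2, 2, 2, 0, 2, 2, 3, 3, 3, 1, 2, 0],
  [0, 0, 0, 0, 0, 0, 0, 0, 0, 0, 0, 0, 0, 2, 2, 0, 0, 0, 0, 0, 2, 0, 0, 2, 2, 0, 0, 0, 2, 0, 0, 0, 0, 0, 0, 0, 2, 0, 0, 2, 0, 0, 0, 0, 2, 0, 2, 0, 2, 0, 0, 0, 0, 2, 0, 0],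
  [0, 0, 0, 0, 0, 0, 0, 0, 0, 0, 0, 0, 0, 0, 2, 2, 0, 0, 0, 0, 0, 0, 0, 0, 0, 2, 0, 0, 0, 2, 0, 0, 0, 0, 0, 2, 0, 2, 0, 0, 0, 0, 2, 0, 2, 2, 2, 0, 2, 0, 0, 0, 0, 0, 2, 0],
  [0, 0, 0, 0, 0, 0, 0, 0, 0, 0, 0, 0, 0, 0, 0, 2, 3, 1, 0, 0, 0, 2, 1, 3, 2, 2, 0, 0, 0, 2, 2, 0, 3, 1, 3, 3, 0, 0, 0, 2, 0, 1, 1, 2, 2, 1, 0, 1, 0, 3, 0, 3, 2, 3, 1, 0],
  [0, 0, 0, 0, 0, 0, 0, 0, 0, 0, 0, 0, 0, 0, 0, 0, 1, 1, 3, 3, 3, 1, 3, 3, 0, 2, 0, 2, 2, 0, 0, 2, 3, 3, 3, 1, 3, 1, 1, 3, 1, 3, 3, 1, 3, 3, 3, 1, 1, 3, 1, 3, 3, 3, 1, 3],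
  [0, 0, 0, 0, 0, 0, 0, 0, 0, 0, 0, 0, 0, 0, 0, 0, 0, 1, 0, 3, 3, 2, 2, 1, 2, 0, 0, 0, 0, 0, 0, 2, 3, 0, 0, 3, 1, 2, 1, 0, 2, 3, 0, 1, 2, 1, 3, 0, 0, 3, 3, 0, 3, 0, 3, 2],
  [0, 0, 0, 0, 0, 0, 0, 0, 0, 0, 0, 0, 0, 0, 0, 0, 0, 0, 1, 1, 0, 0, 1, 3, 1, 3, 3, 3, 1, 3, 1, 1, 0, 3, 0, 3, 1, 0, 0, 1, 1, 1, 3, 1, 2, 0, 2, 0, 2, 1, 3, 2, 0, 3, 0, 1],
  [0, 0, 0, 0, 0, 0, 0, 0, 0, 0, 0, 0, 0, 0, 0, 0, 0, 0, 0, 2, 0, 2, 0, 0, 0, 0, 0, 0, 0, 0, 0, 0, 2, 0, 2, 0, 2, 0, 2, 0, 2, 0, 0, 0, 0, 0, 2, 0, 0, 0, 0, 0, 2, 0, 0, 2],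
  [0, 0, 0, 0, 0, 0, 0, 0, 0, 0, 0, 0, 0, 0, 0, 0, 0, 0, 0, 0, 2, 0, 0, 2, 0, 0, 0, 0, 0, 0, 0, 0, 0, 2, 0, 0, 0, 2, 0, 0, 0, 0, 0, 2, 0, 2, 0, 0, 2, 0, 0, 0, 0, 2, 0, 0],
  [0, 0, 0, 0, 0, 0, 0, 0, 0, 0, 0, 0, 0, 0, 0, 0, 0, 0, 0, 0, 0, 2, 2, 0, 0, 0, 0, 0, 0, 0, 0, 0, 2, 0, 0, 0, 2, 0, 0, 0, 0, 2, 0, 0, 2, 2, 0, 2, 0, 0, 0, 2, 2, 2, 2, 0],
  [0, 0, 0, 0, 0, 0, 0, 0, 0, 0, 0, 0, 0, 0, 0, 0, 0, 0, 0, 0, 0, 0, 2, 2, 0, 2, 0, 0, 0, 2, 0, 0, 0, 2, 0, 0, 0, 2, 0, 0, 2, 0, 0, 2, 0, 0, 0, 0, 2, 0, 0, 0, 0, 2, 0, 0],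
  [0, 0, 0, 0, 0, 0, 0, 0, 0, 0, 0, 0, 0, 0, 0, 0, 0, 0, 0, 0, 0, 0, 0, 0, 1, 1, 1, 3, 3, 1, 3, 1, 1, 3, 1, 3, 1, 1, 1, 3, 2, 0, 2, 2, 2, 0, 0, 0, 0, 2, 0, 2, 0, 2, 0, 2],
  [0, 0, 0, 0, 0, 0, 0, 0, 0, 0, 0, 0, 0, 0, 0, 0, 0, 0, 0, 0, 0, 0, 0, 0, 0, 2, 0, 0, 0, 2, 0, 0, 0, 0, 0, 2, 0, 2, 0, 0, 0, 0, 0, 0, 0, 0, 0, 0, 2, 0, 2, 0, 2, 0, 2, 0],
  [0, 0, 0, 0, 0, 0, 0, 0, 0, 0, 0, 0, 0, 0, 0, 0, 0, 0, 0, 0, 0, 0, 0, 0, 0, 0, 2, 0, 2, 2, 2, 0, 0, 0, 2, 0, 2, 0, 0, 0, 0, 0, 0, 0, 0, 0, 0, 0, 0, 0, 0, 0, 0, 0, 2, 2],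
  [0, 0, 0, 0, 0, 0, 0, 0, 0, 0, 0, 0, 0, 0, 0, 0, 0, 0, 0, 0, 0, 0, 0, 0, 0, 0, 0, 2, 0, 2, 0, 0, 2, 0, 0, 0, 0, 2, 0, 0, 0, 0, 0, 0, 0, 0, 0, 0, 2, 0, 0, 0, 0, 0, 2, 0],
  [0, 0, 0, 0, 0, 0, 0, 0, 0, 0, 0, 0, 0, 0, 0, 0, 0, 0, 0, 0, 0, 0, 0, 0, 0, 0, 0, 0, 2, 0, 0, 2, 0, 0, 0, 0, 2, 0, 2, 0, 0, 0, 0, 0, 0, 0, 0, 0, 0, 0, 0, 2, 0, 2, 0, 0],
  [0, 0, 0, 0, 0, 0, 0, 0, 0, 0, 0, 0, 0, 0, 0, 0, 0, 0, 0, 0, 0, 0, 0, 0, 0, 0, 0, 0, 0, 2, 2, 0, 2, 0, 2, 0, 0, 0, 2, 2, 0, 0, 0, 0, 0, 0, 0, 0, 0, 2, 0, 0, 2, 2, 0, 2],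
  [0, 0, 0, 0, 0, 0, 0, 0, 0, 0, 0, 0, 0, 0, 0, 0, 0, 0, 0, 0, 0, 0, 0, 0, 0, 0, 0, 0, 0, 0, 2, 2, 0, 2, 0, 0, 2, 2, 2, 0, 0, 0, 0, 0, 0, 0, 0, 0, 2, 0, 0, 2, 0, 0, 0, 0],
  [0, 0, 0, 0, 0, 0, 0, 0, 0, 0, 0, 0, 0, 0, 0, 0, 0, 0, 0, 0, 0, 0, 0, 0, 0, 0, 0, 0, 0, 0, 0, 0, 1, 3, 3, 1, 1, 1, 3, 1, 3, 3, 3, 1, 1, 1, 3, 3, 0, 2, 0, 0, 0, 2, 2, 2],
  [0, 0, 0, 0, 0, 0, 0, 0, 0, 0, 0, 0, 0, 0, 0, 0, 0, 0, 0, 0, 0, 0, 0, 0, 0, 0, 0, 0, 0, 0, 0, 0, 0, 2, 2, 0, 0, 2, 0, 2, 0, 0, 2, 2, 0, 0, 2, 2, 0, 2, 0, 2, 0, 2, 2, 0],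
  [0, 0, 0, 0, 0, 0, 0, 0, 0, 0, 0, 0, 0, 0, 0, 0, 0, 0, 0, 0, 0, 0, 0, 0, 0, 0, 0, 0, 0, 0, 0, 0, 0, 0, 2, 2, 0, 0, 2, 2, 2, 2, 2, 2, 0, 0, 0, 0, 2, 2, 0, 0, 0, 0, 2, 2],
  [0, 0, 0, 0, 0, 0, 0, 0, 0, 0, 0, 0, 0, 0, 0, 0, 0, 0, 0, 0, 0, 0, 0, 0, 0, 0, 0, 0, 0, 0, 0, 0, 0, 0, 0, 0, 2, 2, 2, 2, 2, 2, 0, 0, 0, 0, 2, 2, 2, 2, 2, 2, 0, 0, 0, 0],
  [0, 0, 0, 0, 0, 0, 0, 0, 0, 0, 0, 0, 0, 0, 0, 0, 0, 0, 0, 0, 0, 0, 0, 0, 0, 0, 0, 0, 0, 0, 0, 0, 0, 0, 0, 0, 0, 2, 0, 2, 1, 3, 1, 1, 1, 1, 3, 3, 1, 1, 3, 1, 3, 3, 3, 3],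
  [0, 0, 0, 0, 0, 0, 0, 0, 0, 0, 0, 0, 0, 0, 0, 0, 0, 0, 0, 0, 0, 0, 0, 0, 0, 0, 0, 0, 0, 0, 0, 0, 0, 0, 0, 0, 0, 0, 0, 0, 2, 2, 0, 0, 0, 0, 2, 2, 2, 0, 2, 0, 0, 2, 2, 0],
  [0, 0, 0, 0, 0, 0, 0, 0, 0, 0, 0, 0, 0, 0, 0, 0, 0, 0, 0, 0, 0, 0, 0, 0, 0, 0, 0, 0, 0, 0, 0, 0, 0, 0, 0, 0, 0, 0, 0, 0, 0, 2, 2, 0, 2, 0, 2, 0, 2, 2, 0, 0, 2, 2, 0, 0],
  [0, 0, 0, 0, 0, 0, 0, 0, 0, 0, 0, 0, 0, 0, 0, 0, 0, 0, 0, 0, 0, 0, 0, 0, 0, 0, 0, 0, 0, 0, 0, 0, 0, 0, 0, 0, 0, 0, 0, 0, 0, 0, 2, 2, 2, 2, 0, 0, 0, 2, 0, 2, 2, 0, 0, 2],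
  [0, 0, 0, 0, 0, 0, 0, 0, 0, 0, 0, 0, 0, 0, 0, 0, 0, 0, 0, 0, 0, 0, 0, 0, 0, 0, 0, 0, 0, 0, 0, 0, 0, 0, 0, 0, 0, 0, 0, 0, 0, 0, 0, 0, 2, 2, 2, 2, 2, 0, 0, 2, 2, 0, 2, 0],
  [0, 0, 0, 0, 0, 0, 0, 0, 0, 0, 0, 0, 0, 0, 0, 0, 0, 0, 0, 0, 0, 0, 0, 0, 0, 0, 0, 0, 0, 0, 0, 0, 0, 0, 0, 0, 0, 0, 0, 0, 0, 0, 0, 0, 0, 0, 0, 0, 2, 2, 2, 2, 2, 2, 2, 2]]

/-- The generating vectors in terms of the rows. -/
def tableCert : List (List (ℕ × ℤ)) := [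
  [],
  [(1, 3), (2, 1), (5, 3), (6, 2), (7, 1), (8, 3), (9, 2), (11, 1), (12, 2), (13, 1), (15, 1), (16, 1), (18, 1), (19, 1), (21, 1), (23, 3), (24, 1), (25, 1), (26, 1), (27, 1), (30, 3), (32, 1), (33, 1), (34, 1), (37, 1), (39, 1)],
  [(1, 3), (2, 1), (4, 2), (5, 3), (7, 1), (8, 3), (10, 2), (12, 2), (15, 1), (16, 3), (18, 1), (20, 1), (21, 1), (23, 3), (24, 1), (25, 1), (30, 1), (32, 1), (33, 1), (34, 1), (35, 1), (36, 1), (37, 1)],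
  [(1, 3), (2, 3), (4, 2), (5, 3), (7, 1), (8, 1), (9, 2), (11, 1), (12, 2), (13, 1), (14, 1), (15, 1), (16, 3), (17, 2), (18, 3), (20, 1), (22, 1), (23, 1), (26, 1), (27, 1), (30, 1), (31, 1), (33, 1), (34, 1), (36, 1), (39, 1)],
  [(1, 3), (2, 3), (5, 3), (6, 2), (7, 1), (8, 1), (10, 2), (12, 2), (14, 1), (15, 1), (16, 1), (17, 2), (18, 3), (19, 1), (22, 1), (23, 1), (30, 3), (31, 1), (33, 1), (34, 1), (35, 1)],
  [(0, 1), (2, 2), (8, 2), (9, 2), (10, 2), (11, 1), (13, 1), (15, 1), (16, 2), (17, 3), (18, 3), (19, 1), (20, 1), (21, 1), (23, 1), (24, 1), (25, 1), (26, 1), (27, 1), (28, 1), (29, 1), (30, 2), (32, 1), (33, 1), (34, 1), (35, 1), (36, 1)],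
  [(0, 1), (2, 2), (8, 1), (9, 1), (11, 1), (12, 1), (13, 1), (16, 2), (17, 3), (18, 2), (19, 1), (21, 1), (22, 1), (23, 1), (24, 1), (26, 1), (27, 1), (28, 1), (29, 1), (30, 2), (31, 1), (32, 1), (33, 1), (35, 1), (38, 1), (39, 1)],
  [(0, 1), (2, 2), (8, 1), (9, 1), (10, 1), (13, 1), (17, 1), (18, 1), (20, 1), (24, 1), (25, 1), (30, 1), (31, 1), (32, 1), (33, 1), (34, 1), (36, 1), (37, 1), (39, 1)],
  [(0, 1), (2, 2), (4, 2), (6, 2), (8, 1), (9, 3), (11, 1), (12, 1), (13, 1), (15, 1), (16, 3), (17, 3), (18, 3), (19, 1), (21, 1), (22, 1), (24, 1), (26, 1), (29, 1), (30, 3), (31, 1), (36, 1), (38, 1), (39, 1)],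
  [(0, 1), (2, 2), (4, 2), (6, 2), (8, 1), (9, 3), (10, 3), (13, 1), (14, 1), (15, 1), (16, 3), (17, 3), (18, 2), (21, 1), (22, 1), (23, 3), (27, 1), (28, 1), (29, 1), (30, 3), (31, 1), (34, 1), (35, 1), (36, 1), (39, 1)],
  [(0, 1), (2, 2), (4, 2), (6, 2), (8, 2), (14, 1), (16, 2), (17, 1), (18, 2), (19, 1), (22, 1), (26, 1), (28, 1), (30, 1), (31, 1), (32, 1), (34, 1), (37, 1), (38, 1)],
  [(0, 1), (2, 2), (4, 2), (6, 2), (8, 1), (9, 2), (10, 2), (11, 1), (12, 3), (15, 1), (16, 2), (17, 3), (18, 3), (19, 1), (20, 1), (21, 1), (22, 1), (23, 3), (24, 1), (26, 1), (27, 1), (28, 1), (29, 1), (30, 2), (31, 1), (32, 1), (33, 1), (35, 1), (36, 1), (39, 1)],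
  [(0, 1), (4, 2), (6, 2), (8, 3), (12, 3), (13, 1), (14, 1), (18, 2), (19, 1), (21, 1), (22, 1), (24, 1), (25, 1), (27, 1), (28, 1), (29, 1), (30, 1), (31, 1), (33, 1), (34, 1), (37, 1), (39, 1)],
  [(0, 1), (4, 2), (6, 2), (8, 2), (12, 2), (13, 1), (15, 1), (16, 1), (17, 2), (18, 1), (21, 1), (23, 1), (27, 1), (28, 1), (30, 3), (31, 1), (32, 1), (35, 1), (37, 1), (38, 1), (39, 1)],
  [(0, 1), (4, 2), (6, 2), (8, 3), (9, 1), (10, 1), (13, 1), (14, 1), (16, 3), (17, 2), (18, 1), (22, 1), (23, 2), (25, 1), (27, 1), (28, 1), (30, 1), (32, 1), (39, 1)],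
  [(0, 1), (4, 2), (6, 2), (8, 3), (9, 1), (10, 2), (12, 1), (13, 1), (16, 2), (17, 2), (20, 1), (21, 1), (23, 3), (25, 1), (26, 1), (28, 1), (30, 2), (32, 1), (33, 1), (34, 1), (35, 1), (37, 1), (39, 1)],
  [(0, 1), (8, 3), (9, 3), (10, 3), (11, 1), (12, 2), (13, 1), (14, 1), (15, 1), (16, 3), (17, 2), (18, 2), (21, 1), (22, 1), (23, 3), (25, 1), (28, 1), (30, 3), (31, 1), (33, 1), (35, 1), (37, 1), (38, 1), (39, 1)],
  [(0, 1), (8, 3), (9, 3), (10, 2), (12, 1), (13, 1), (15, 1), (16, 2), (18, 1), (20, 1), (21, 1), (22, 1), (24, 1), (28, 1), (29, 1), (30, 1), (32, 1), (33, 1), (34, 1), (36, 1), (38, 1)],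
  [(0, 1), (8, 3), (9, 2), (10, 2), (11, 1), (12, 3), (14, 1), (15, 1), (16, 3), (17, 2), (18, 3), (19, 1), (21, 1), (23, 1), (26, 1), (28, 1), (30, 1), (34, 1), (35, 1), (39, 1)],
  [(0, 1)]]

/-- The signed permutation of real coordinates. -/
def permI : List (ℕ × Bool) := [(1, true), (0, false), (3, true), (2, false), (5, true), (4, false), (7, true), (6, false), (9, true), (8, false), (11, true), (10, false), (13, true), (12, false), (15, true), (14, false), (17, true), (16, false), (19, true), (18, false), (21, true), (20, false), (23, true), (22, false), (25, true), (24, false), (27, true), (26, false), (29, true), (28, false), (31, true), (30, false), (33, true), (32, false), (35, true), (34, false), (37, true), (36, false), (39, true), (38, false), (41, true), (40, false), (43, true), (42, false), (45, true), (44, false), (47, true),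 (46, false), (49, true), (48, false), (51, true), (50, false), (53, true), (52, false), (55, true), (54, false)]

/-- The images of the rows in terms of the rows. -/
def certI : List (List (ℕ × ℤ)) := [
  [(1, 1), (3, 3), (5, 3), (6, 1), (9, 2), (10, 3), (12, 3), (13, 1), (16, 1), (18, 3), (20, 1), (23, 1), (25, 1), (26, 1), (27, 1), (29, 1), (31, 1), (32, 1), (34, 1), (36, 1), (37, 1), (39, 1)],
  [(0, 3), (2, 3), (4, 1), (6, 1), (9, 1), (10, 2), (12, 2), (14, 1), (15, 1), (16, 3), (18, 3), (19, 1), (20, 1), (21, 1), (23, 2), (25, 1), (26, 1), (30, 2), (31, 1), (32, 1), (33, 1), (34, 1), (35, 1), (36, 1), (39, 1)],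
  [(3, 1), (5, 2), (6, 2), (7, 1), (9, 2), (10, 1), (12, 2), (16, 1), (17, 1), (18, 1), (19, 1), (24, 1), (25, 1), (26, 1), (28, 1), (29, 1), (30, 3), (31, 1), (35, 1), (36, 1)],
  [(2, 3), (4, 2), (7, 1), (8, 2), (10, 1), (12, 2), (16, 2), (17, 3), (18, 1), (19, 1), (22, 1), (24, 1), (25, 1), (27, 1), (28, 1), (29, 1), (30, 3), (31, 1), (32, 1)],
  [(5, 1), (8, 1), (9, 1), (11, 1), (12, 1), (13, 1), (17, 1), (21, 1), (24, 1), (25, 1), (26, 1), (27, 1), (28, 1), (30, 1), (31, 1), (33, 1), (34, 1), (35, 1), (37, 1)],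
  [(4, 3), (9, 3), (10, 3), (11, 1), (12, 3), (14, 1), (15, 1), (16, 3), (17, 1), (22, 1), (24, 1), (26, 1), (27, 1), (29, 1), (30, 3), (34, 1), (37, 1)],
  [(6, 3), (7, 1), (10, 1), (12, 2), (13, 1), (16, 3), (18, 1), (22, 1), (23, 3), (24, 1), (25, 1), (26, 1), (27, 1), (29, 1), (31, 1), (34, 1), (39, 1)],
  [(6, 2), (7, 1), (11, 1), (12, 2), (13, 1), (16, 1), (17, 2), (19, 1), (23, 1), (24, 1), (26, 1), (28, 1), (30, 2), (31, 1), (32, 1), (33, 1), (34, 1), (35, 1), (38, 1)],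
  [(8, 1), (9, 2), (10, 2), (11, 1), (13, 1), (14, 1), (16, 3), (17, 2), (19, 1), (21, 1), (23, 3), (25, 1), (29, 1), (30, 3), (31, 1), (32, 1), (33, 1), (34, 1), (36, 1), (38, 1)],
  [(8, 3), (9, 3), (10, 1), (11, 1), (13, 1), (15, 1), (18, 2), (21, 1), (22, 1), (23, 2), (24, 1), (25, 1), (27, 1), (28, 1), (30, 1), (31, 1), (37, 1), (38, 1), (39, 1)],
  [(10, 1), (11, 1), (13, 1), (16, 1), (17, 2), (21, 1), (23, 1), (25, 1), (26, 1), (28, 1), (29, 1), (30, 3), (31, 1), (38, 1), (39, 1)],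
  [(10, 2), (11, 1), (12, 2), (18, 2), (20, 1), (21, 1), (27, 1), (28, 1), (31, 1), (32, 1), (36, 1), (37, 1), (39, 1)],
  [(12, 1), (13, 1), (16, 3), (17, 2), (19, 1), (21, 1), (22, 1), (23, 3), (26, 1), (30, 2), (33, 1), (34, 1), (36, 1), (37, 1), (38, 1)],
  [(12, 2), (13, 1), (16, 2), (17, 2), (18, 2), (23, 2), (24, 1), (25, 1), (27, 1), (28, 1), (31, 1), (32, 1), (33, 1), (36, 1), (37, 1)],
  [(14, 1), (23, 2), (25, 1), (26, 1), (27, 1), (31, 1)],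
  [(14, 1), (15, 1), (17, 2), (19, 1), (24, 1), (27, 1), (28, 1), (30, 2), (34, 1), (35, 1), (36, 1), (37, 1)],
  [(16, 3), (17, 2), (23, 2), (33, 1), (37, 1), (38, 1), (39, 1)],
  [(16, 3), (17, 1), (20, 1), (21, 1), (22, 1), (23, 2), (25, 1), (27, 1), (28, 1), (30, 2), (31, 1), (32, 1), (33, 1), (36, 1), (37, 1)],
  [(18, 3), (19, 1), (21, 1), (23, 2), (24, 1), (25, 1), (27, 1), (28, 1), (29, 1), (30, 1), (32, 1), (34, 1), (38, 1)],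
  [(18, 2), (19, 1), (20, 1), (21, 1), (23, 2), (30, 2), (31, 1), (33, 1), (36, 1), (38, 1)],
  [(21, 1), (36, 1), (38, 1)],
  [(20, 1), (35, 1), (36, 1), (37, 1), (38, 1)],
  [(22, 1), (23, 2), (25, 1), (26, 1), (27, 1), (30, 2), (31, 1), (33, 1), (35, 1), (37, 1)],
  [(23, 3), (24, 1), (25, 1), (30, 2), (31, 1)],
  [(23, 2), (24, 1), (25, 1), (26, 1), (27, 1), (31, 1), (37, 1), (38, 1), (39, 1)],
  [(26, 1), (27, 1), (30, 2), (31, 1), (35, 1), (38, 1), (39, 1)],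
  [(25, 1), (28, 1), (30, 2), (32, 1), (33, 1), (35, 1), (38, 1)],
  [(28, 1), (30, 2), (31, 1), (32, 1), (33, 1), (35, 1), (37, 1), (39, 1)],
  [(27, 1), (31, 1), (32, 1), (33, 1), (39, 1)],
  [(29, 1), (30, 2), (32, 1), (33, 1), (35, 1), (38, 1), (39, 1)],
  [(30, 1), (31, 1), (32, 1), (33, 1), (35, 1), (36, 1), (37, 1), (38, 1)],
  [(30, 2), (31, 1), (35, 1), (37, 1)],
  [(32, 1)],
  [(33, 1)],
  [(33, 1), (34, 1), (35, 1), (36, 1)],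
  [(35, 1), (39, 1)],
  [(35, 1), (36, 1), (37, 1), (39, 1)],
  [(37, 1), (39, 1)],
  [(38, 1), (39, 1)],
  [(39, 1)]]

/-- The signed permutation of real coordinates. -/
def permJ : List (ℕ × Bool) := [(3, true), (2, false), (1, true), (0, false), (6, false), (7, false), (4, true), (5, true), (11, true), (10, false), (9, true), (8, false), (14, false), (15, false), (12, true), (13, true), (19, true), (18, false), (17, true), (16, false), (22, false), (23, false), (20, true), (21, true), (27, true), (26, false), (25, true), (24, false), (30, false), (31, false), (28, true), (29, true), (35, true), (34, false), (33, true), (32, false), (38, false), (39, false), (36, true), (37, true), (43, true), (42, false), (41, true), (40, false), (46, false), (47, false), (44, true), (45, true), (51, true), (50, false), (49, true), (48, false), (54, false),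 (55, false), (52, true), (53, true)]

/-- The images of the rows in terms of the rows. -/
def certJ : List (List (ℕ × ℤ)) := [
  [(1, 3), (3, 1), (4, 1), (6, 1), (8, 3), (13, 1), (14, 1), (16, 1), (17, 3), (18, 2), (19, 1), (20, 1), (21, 1), (28, 1), (29, 1), (30, 1), (33, 1), (35, 1), (36, 1)],
  [(2, 3), (4, 1), (7, 1), (8, 3), (10, 1), (12, 3), (16, 2), (17, 1), (18, 3), (21, 1), (24, 1), (29, 1), (30, 3), (32, 1), (34, 1), (36, 1), (39, 1)],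
  [(1, 1), (5, 1), (6, 2), (7, 1), (9, 3), (10, 3), (12, 1), (13, 1), (16, 3), (19, 1), (22, 1), (23, 1), (24, 1), (25, 1), (26, 1), (27, 1), (28, 1), (30, 3), (31, 1), (33, 1), (35, 1), (36, 1)],
  [(0, 3), (2, 3), (6, 1), (9, 1), (10, 1), (13, 1), (16, 3), (20, 1), (21, 1), (23, 3), (24, 1), (26, 1), (29, 1), (30, 1), (31, 1), (32, 1), (33, 1), (35, 1)],
  [(5, 3), (8, 3), (9, 3), (11, 1), (17, 3), (18, 3), (20, 1), (21, 1), (22, 1), (23, 1), (28, 1), (31, 1), (32, 1), (34, 1), (36, 1), (37, 1)],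
  [(4, 1), (9, 1), (10, 1), (11, 1), (14, 1), (15, 1), (17, 1), (18, 1), (21, 1), (22, 1), (23, 1), (24, 1), (29, 1), (30, 2), (31, 1), (32, 1), (33, 1), (34, 1), (35, 1), (36, 1), (37, 1), (39, 1)],
  [(4, 1), (5, 1), (6, 3), (7, 1), (10, 1), (12, 3), (14, 1), (15, 1), (17, 3), (21, 1), (23, 2), (25, 1), (27, 1), (30, 1), (31, 1), (36, 1), (39, 1)],
  [(5, 2), (6, 2), (7, 1), (9, 2), (10, 2), (11, 1), (13, 1), (14, 1), (17, 2), (20, 1), (22, 1), (23, 1), (25, 1), (28, 1), (30, 1), (31, 1), (32, 1), (34, 1), (37, 1), (38, 1), (39, 1)],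
  [(10, 1), (11, 1), (15, 1), (16, 1), (17, 2), (19, 1), (23, 2), (24, 1), (29, 1), (30, 3), (32, 1), (33, 1), (34, 1), (35, 1), (37, 1), (38, 1), (39, 1)],
  [(8, 2), (9, 1), (11, 1), (12, 2), (14, 1), (16, 3), (18, 2), (20, 1), (25, 1), (26, 1), (28, 1), (29, 1), (30, 2), (33, 1), (34, 1), (35, 1), (36, 1), (37, 1), (38, 1)],
  [(8, 1), (9, 2), (10, 2), (11, 1), (12, 2), (13, 1), (14, 1), (15, 1), (16, 2), (20, 1), (21, 1), (22, 1), (25, 1), (26, 1), (28, 1), (29, 1), (33, 1), (34, 1), (36, 1), (37, 1), (38, 1)],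
  [(8, 2), (9, 2), (10, 2), (11, 1), (12, 2), (16, 2), (25, 1), (26, 1), (28, 1), (30, 2), (31, 1), (32, 1), (37, 1), (39, 1)],
  [(12, 1), (13, 1), (16, 2), (19, 1), (23, 3), (24, 1), (26, 1), (28, 1), (30, 1), (32, 1), (34, 1), (36, 1), (38, 1)],
  [(12, 2), (13, 1), (16, 2), (17, 2), (18, 2), (23, 2), (25, 1), (26, 1), (27, 1), (31, 1), (33, 1), (35, 1), (36, 1)],
  [(12, 2), (14, 1), (16, 2), (17, 2), (18, 2), (20, 1), (21, 1), (25, 1), (26, 1), (27, 1), (30, 2), (32, 1), (33, 1), (35, 1), (36, 1)],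
  [(13, 1), (14, 1), (15, 1), (16, 1), (17, 2), (19, 1), (20, 1), (21, 1), (22, 1), (25, 1), (30, 1), (32, 1), (33, 1), (35, 1), (39, 1)],
  [(16, 1), (17, 2), (20, 1), (21, 1), (23, 2), (30, 2), (31, 1), (33, 1), (35, 1), (36, 1), (38, 1), (39, 1)],
  [(16, 1), (17, 3), (20, 1), (21, 1), (22, 1), (23, 2), (24, 1), (25, 1), (26, 1), (27, 1), (30, 3), (31, 1), (32, 1), (34, 1), (35, 1), (36, 1), (37, 1)],
  [(16, 3), (17, 2), (18, 3), (19, 1), (20, 1), (21, 1), (22, 1), (23, 2), (25, 1), (28, 1), (29, 1), (30, 2), (32, 1), (33, 1), (34, 1), (35, 1), (38, 1), (39, 1)],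
  [(16, 2), (17, 2), (18, 2), (19, 1), (23, 2), (32, 1), (37, 1), (38, 1), (39, 1)],
  [(21, 1), (30, 2), (31, 1), (32, 1), (35, 1), (37, 1), (38, 1), (39, 1)],
  [(20, 1), (31, 1), (32, 1), (35, 1), (37, 1), (38, 1), (39, 1)],
  [(20, 1), (21, 1), (22, 1), (24, 1), (25, 1), (27, 1), (28, 1), (32, 1), (33, 1), (36, 1)],
  [(23, 1), (25, 1), (26, 1), (27, 1), (30, 2), (33, 1), (36, 1), (37, 1)],
  [(25, 1), (27, 1), (28, 1)],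
  [(24, 1), (27, 1), (28, 1), (30, 2), (35, 1), (37, 1)],
  [(23, 2), (24, 1), (25, 1), (26, 1), (31, 1), (32, 1), (35, 1)],
  [(28, 1), (30, 2), (31, 1), (32, 1), (37, 1)],
  [(27, 1), (31, 1), (32, 1), (35, 1)],
  [(27, 1), (28, 1), (29, 1), (30, 2), (32, 1), (38, 1)],
  [(30, 3), (31, 1), (32, 1), (39, 1)],
  [(31, 1), (35, 1), (37, 1)],
  [(30, 2), (32, 1), (35, 1), (37, 1)],
  [(33, 1), (35, 1), (37, 1), (39, 1)],
  [(34, 1), (35, 1), (38, 1), (39, 1)],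
  [(37, 1)],
  [(36, 1), (39, 1)],
  [(35, 1)],
  [(38, 1)],
  [(39, 1)]]

/-- The signed permutation of real coordinates. -/
def permK : List (ℕ × Bool) := [(5, true), (4, false), (6, true), (7, true), (1, true), (0, false), (2, false), (3, false), (13, true), (12, false), (14, true), (15, true), (9, true), (8, false), (10, false), (11, false), (21, true), (20, false), (22, true), (23, true), (17, true), (16, false), (18, false), (19, false), (29, true), (28, false), (30, true), (31, true), (25, true), (24, false), (26, false), (27, false), (37, true), (36, false), (38, true), (39, true), (33, true), (32, false), (34, false), (35, false), (45, true), (44, false), (46, true), (47, true), (41, true), (40, false), (42, false), (43, false), (53, true), (52, false), (54, true), (55, true), (49, true), (48, false), (50, false), (51, false)]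

/-- The images of the rows in terms of the rows. -/
def certK : List (List (ℕ × ℤ)) := [
  [(1, 3), (2, 3), (4, 1), (6, 3), (7, 1), (8, 2), (9, 2), (10, 2), (12, 1), (15, 1), (17, 2), (19, 1), (23, 2), (24, 1), (26, 1), (27, 1), (28, 1), (32, 1), (33, 1), (37, 1)],
  [(0, 1), (2, 1), (4, 3), (6, 3), (8, 3), (9, 2), (10, 2), (11, 1), (12, 2), (16, 2), (25, 1), (26, 1), (28, 1), (30, 2), (31, 1), (32, 1), (36, 1)],
  [(1, 1), (5, 1), (8, 1), (9, 2), (10, 2), (12, 3), (13, 1), (14, 1), (15, 1), (16, 3), (17, 2), (18, 2), (21, 1), (23, 2), (24, 1), (26, 1), (27, 1), (31, 1), (35, 1), (37, 1), (39, 1)],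
  [(0, 1), (2, 1), (6, 3), (7, 1), (10, 1), (12, 2), (14, 1), (17, 2), (18, 2), (19, 1), (20, 1), (21, 1), (22, 1), (24, 1), (26, 1), (30, 2), (36, 1)],
  [(1, 1), (3, 1), (5, 2), (6, 2), (7, 1), (10, 2), (11, 1), (12, 2), (13, 1), (15, 1), (16, 3), (18, 2), (22, 1), (23, 2), (24, 1), (25, 1), (28, 1), (29, 1), (30, 2), (35, 1), (36, 1)],
  [(0, 3), (2, 2), (4, 1), (6, 1), (8, 3), (9, 2), (10, 3), (12, 1), (13, 1), (14, 1), (16, 1), (17, 2), (20, 1), (27, 1), (28, 1), (29, 1), (30, 2), (33, 1), (35, 1), (36, 1)],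
  [(2, 3), (3, 3), (4, 1), (5, 3), (6, 1), (8, 2), (9, 2), (12, 2), (15, 1), (16, 3), (17, 2), (18, 2), (20, 1), (22, 1), (27, 1), (32, 1), (33, 1), (36, 1)],
  [(3, 2), (5, 2), (6, 2), (7, 1), (8, 3), (9, 2), (10, 3), (11, 1), (12, 2), (15, 1), (16, 2), (17, 2), (25, 1), (26, 1), (27, 1), (29, 1), (35, 1), (37, 1)],
  [(8, 3), (9, 2), (10, 2), (14, 1), (16, 3), (17, 2), (18, 2), (19, 1), (20, 1), (21, 1), (23, 2), (24, 1), (25, 1), (27, 1), (29, 1), (30, 2), (31, 1), (39, 1)],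
  [(8, 3), (9, 1), (10, 3), (11, 1), (13, 1), (15, 1), (16, 3), (22, 1), (23, 3), (24, 1), (25, 1), (26, 1), (30, 1), (33, 1), (35, 1), (36, 1), (39, 1)],
  [(10, 3), (11, 1), (13, 1), (17, 2), (20, 1), (21, 1), (24, 1), (25, 1), (28, 1), (29, 1), (30, 2), (31, 1), (33, 1), (35, 1), (37, 1)],
  [(8, 2), (9, 2), (10, 2), (11, 1), (12, 2), (16, 2), (25, 1), (26, 1), (28, 1), (30, 2), (31, 1), (32, 1), (36, 1)],
  [(8, 1), (9, 2), (10, 1), (12, 1), (13, 1), (15, 1), (16, 2), (17, 2), (25, 1), (26, 1), (27, 1), (28, 1), (33, 1), (35, 1), (37, 1), (39, 1)],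
  [(8, 2), (9, 2), (12, 2), (13, 1), (23, 2), (24, 1), (26, 1), (28, 1), (30, 2), (31, 1), (32, 1), (33, 1), (36, 1), (37, 1), (39, 1)],
  [(10, 2), (14, 1), (16, 2), (17, 2), (23, 2), (24, 1), (25, 1), (31, 1), (32, 1), (33, 1), (36, 1), (37, 1)],
  [(11, 1), (13, 1), (14, 1), (15, 1), (16, 3), (18, 2), (19, 1), (30, 2), (31, 1), (32, 1), (33, 1), (35, 1), (36, 1), (37, 1), (39, 1)],
  [(16, 3), (20, 1), (21, 1), (32, 1), (33, 1), (35, 1), (36, 1)],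
  [(16, 2), (17, 1), (19, 1), (20, 1), (21, 1), (22, 1), (23, 2), (25, 1), (30, 3), (32, 1), (33, 1), (35, 1)],
  [(18, 3), (19, 1), (21, 1), (23, 2), (24, 1), (29, 1), (30, 2), (31, 1), (34, 1), (39, 1)],
  [(16, 2), (17, 2), (18, 2), (19, 1), (23, 2), (33, 1), (37, 1)],
  [(17, 2), (20, 1), (31, 1), (32, 1), (39, 1)],
  [(16, 2), (17, 2), (21, 1), (30, 2), (31, 1), (32, 1), (39, 1)],
  [(18, 2), (22, 1), (25, 1), (26, 1), (27, 1), (32, 1), (35, 1), (36, 1), (37, 1)],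
  [(23, 3), (25, 1), (26, 1), (28, 1), (35, 1), (37, 1), (39, 1)],
  [(23, 2), (24, 1), (25, 1), (26, 1), (27, 1), (30, 2), (32, 1), (38, 1)],
  [(23, 2), (26, 1), (27, 1), (32, 1), (35, 1), (37, 1), (38, 1)],
  [(23, 2), (24, 1), (25, 1), (26, 1), (30, 2), (32, 1), (33, 1), (35, 1), (38, 1)],
  [(24, 1), (26, 1), (30, 2), (33, 1), (37, 1)],
  [(23, 2), (24, 1), (26, 1), (27, 1), (28, 1), (30, 2), (33, 1), (37, 1)],
  [(25, 1), (26, 1), (27, 1), (29, 1)],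
  [(30, 3), (33, 1), (36, 1), (37, 1), (38, 1)],
  [(30, 2), (31, 1), (35, 1), (37, 1)],
  [(32, 1), (35, 1), (37, 1)],
  [(30, 2), (33, 1), (39, 1)],
  [(30, 2), (31, 1), (33, 1), (34, 1), (35, 1), (38, 1), (39, 1)],
  [(37, 1), (39, 1)],
  [(36, 1)],
  [(35, 1), (39, 1)],
  [(35, 1), (37, 1), (38, 1)],
  [(39, 1)]]

/-- The signed permutation of real coordinates. -/
def permS : List (ℕ × Bool) := [(0, true), (1, true), (2, true), (3, true), (4, true), (5, true), (6, true), (7, true), (8, false), (9, false), (10, false), (11, false), (12, false), (13, false), (14, false), (15, false), (16, false), (17, false), (18, false), (19, false), (20, false), (21, false), (22, false), (23, false), (24, true), (25, true), (26, true), (27, true), (28, true), (29, true), (30, true), (31, true), (32, false), (33, false), (34, false), (35, false), (36,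 false), (37, false), (38, false), (39, false), (40, true), (41, true), (42, true), (43, true), (44, true), (45, true), (46, true), (47, true), (48, true), (49, true), (50, true), (51, true), (52, true), (53, true), (54, true), (55, true)]

/-- The images of the rows in terms of the rows. -/
def certS : List (List (ℕ × ℤ)) := [
  [(0, 3), (8, 2), (9, 2), (10, 2), (11, 1), (12, 2), (14, 1), (16, 2), (20, 1), (24, 1), (25, 1), (26, 1), (28, 1), (30, 2), (31, 1), (32, 1)],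
  [(1, 3), (11, 1), (16, 2), (17, 2), (18, 2), (19, 1), (21, 1), (22, 1), (23, 2), (24, 1), (32, 1), (35, 1), (37, 1), (39, 1)],
  [(2, 3), (8, 2), (9, 2), (10, 2), (11, 1), (13, 1), (14, 1), (17, 2), (18, 2), (21, 1), (22, 1), (23, 2), (26, 1), (27, 1), (31, 1), (33, 1), (36, 1), (37, 1)],
  [(3, 3), (8, 2), (9, 2), (10, 2), (11, 1), (12, 2), (13, 1), (14, 1), (17, 2), (21, 1), (22, 1), (23, 2), (24, 1), (27, 1), (28, 1), (31, 1), (32, 1), (33, 1), (36, 1), (37, 1), (39, 1)],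
  [(4, 3), (12, 2), (13, 1), (14, 1), (16, 2), (18, 2), (19, 1), (20, 1), (21, 1), (23, 2), (24, 1), (25, 1), (27, 1), (28, 1), (32, 1)],
  [(5, 3), (8, 2), (9, 2), (12, 2), (13, 1), (14, 1), (16, 2), (18, 2), (19, 1), (24, 1), (26, 1), (28, 1), (33, 1), (35, 1), (36, 1)],
  [(6, 3), (9, 2), (10, 2), (11, 1), (12, 2), (14, 1), (18, 2), (21, 1), (25, 1), (27, 1), (28, 1), (30, 2), (31, 1), (32, 1), (39, 1)],
  [(7, 1), (23, 2), (24, 1), (26, 1), (28, 1), (30, 2), (32, 1), (35, 1), (37, 1), (38, 1)],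
  [(8, 1), (23, 2), (24, 1), (26, 1), (27, 1), (31, 1), (36, 1), (38, 1), (39, 1)],
  [(9, 1), (24, 1), (25, 1), (32, 1), (33, 1), (35, 1), (36, 1), (38, 1), (39, 1)],
  [(10, 1), (24, 1), (26, 1), (27, 1), (30, 2), (31, 1), (35, 1), (37, 1), (39, 1)],
  [(11, 1)],
  [(12, 1), (23, 2), (24, 1), (26, 1), (28, 1), (30, 2), (32, 1), (38, 1)],
  [(13, 1)],
  [(14, 1)],
  [(15, 1), (36, 1), (38, 1)],
  [(16, 1), (35, 1), (37, 1)],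
  [(17, 1), (36, 1), (37, 1), (39, 1)],
  [(18, 1), (23, 2), (30, 2), (38, 1), (39, 1)],
  [(19, 1)],
  [(20, 1)],
  [(21, 1)],
  [(22, 1)],
  [(23, 3), (30, 2), (35, 1), (37, 1), (39, 1)],
  [(24, 1)],
  [(25, 1)],
  [(26, 1)],
  [(27, 1)],
  [(28, 1)],
  [(29, 1)],
  [(30, 1), (35, 1), (37, 1), (39, 1)],
  [(31, 1)],
  [(32, 1)],
  [(33, 1)],
  [(34, 1), (35, 1), (37, 1)],
  [(35, 1)],
  [(36, 1)],
  [(37, 1)],
  [(38, 1)],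
  [(39, 1)]]

/-- The signed permutation of real coordinates. -/
def permH : List (ℕ × Bool) := [(8, false), (9, false), (10, false), (11, false), (12, false), (13, false), (14, false), (15, false), (16, false), (17, false), (18, false), (19, false), (20, false), (21, false), (22, false), (23, false), (24, false), (25, false), (26, false), (27, false), (28, false), (29, false), (30, false), (31, false), (32, false), (33, false), (34, false), (35, false), (36, false), (37, false), (38, false), (39, false), (40, false), (41, false), (42, false), (43, false), (44, false), (45, false), (46, false), (47, false), (48, false), (49, false), (50, false), (51, false), (52, false), (53, false), (54, false), (55, false), (0, false), (1, false), (2, false), (3, false), (4, false), (5, false), (6, false), (7, false)]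

/-- The images of the rows in terms of the rows. -/
def certH : List (List (ℕ × ℤ)) := [
  [(0, 1), (2, 1)],
  [(3, 3)],
  [(0, 3), (2, 3), (4, 1)],
  [(0, 1), (2, 1), (5, 3)],
  [(4, 1), (6, 1)],
  [(0, 3), (4, 1)],
  [(1, 3), (4, 3), (6, 3)],
  [(0, 1), (1, 3), (3, 1), (4, 1), (6, 1), (8, 1)],
  [(0, 1), (1, 3), (2, 1), (4, 3), (6, 3), (7, 1), (8, 2), (9, 2), (10, 3), (11, 1), (13, 1), (16, 2), (19, 1), (20, 1), (25, 1), (26, 1), (28, 1), (29, 1), (30, 2), (31, 1)],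
  [(1, 1), (2, 3), (3, 2), (4, 3), (6, 2), (8, 3), (10, 2), (11, 1), (12, 2), (13, 1), (14, 1), (18, 1), (23, 2), (24, 1), (26, 1), (28, 1), (29, 1), (39, 1)],
  [(2, 1), (3, 3), (4, 3), (5, 3), (6, 2), (7, 1), (8, 3), (9, 2), (10, 1), (12, 1), (17, 2), (19, 1), (27, 1), (28, 1), (32, 1), (33, 1), (36, 1), (37, 1)],
  [(3, 2), (8, 2), (9, 2), (10, 2), (11, 1), (12, 2), (13, 1), (14, 1), (17, 2), (21, 1), (22, 1), (25, 1), (26, 1), (27, 1), (28, 1), (29, 1), (31, 1), (32, 1), (33, 1), (36, 1), (37, 1)],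
  [(4, 1), (5, 3), (6, 2), (9, 2), (10, 1), (11, 1), (12, 2), (15, 1), (17, 2), (18, 2), (20, 1), (22, 1), (25, 1), (26, 1), (27, 1), (28, 1), (29, 1), (32, 1), (33, 1), (36, 1), (37, 1), (39, 1)],
  [(5, 2), (8, 2), (9, 2), (14, 1), (16, 2), (18, 2), (20, 1), (21, 1), (25, 1), (26, 1), (27, 1), (30, 2), (39, 1)],
  [(6, 2), (9, 2), (10, 2), (11, 1), (12, 2), (14, 1), (17, 2), (18, 2), (19, 1), (20, 1), (21, 1), (23, 2), (24, 1), (26, 1), (27, 1), (29, 1), (31, 1), (32, 1), (33, 1), (36, 1), (37, 1)],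
  [(7, 1), (8, 2), (10, 1), (12, 2), (13, 1), (14, 1), (15, 1), (16, 1), (17, 2), (19, 1), (21, 1), (22, 1), (23, 2), (24, 1), (25, 1), (27, 1), (29, 1), (30, 2), (33, 1), (36, 1), (37, 1), (39, 1)],
  [(8, 1), (9, 2), (10, 1), (13, 1), (15, 1), (16, 3), (18, 2), (21, 1), (22, 1), (24, 1), (25, 1), (29, 1), (30, 2), (31, 1), (35, 1), (39, 1)],
  [(9, 1), (10, 1), (11, 1), (12, 1), (14, 1), (15, 1), (16, 1), (17, 3), (21, 1), (22, 1), (24, 1), (26, 1), (27, 1), (29, 1), (33, 1), (36, 1), (37, 1)],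
  [(10, 1), (11, 1), (13, 1), (14, 1), (16, 2), (17, 1), (19, 1), (21, 1), (22, 1), (24, 1), (26, 1), (27, 1), (28, 1), (30, 2)],
  [(11, 1), (23, 2), (24, 1), (26, 1), (28, 1), (29, 1), (39, 1)],
  [(12, 2), (13, 1), (16, 2), (17, 2), (18, 2), (21, 1), (23, 2), (24, 1), (25, 1), (27, 1), (28, 1), (30, 2), (32, 1), (33, 1), (36, 1), (37, 1)],
  [(13, 1), (20, 1)],
  [(14, 1), (17, 2), (19, 1), (20, 1), (30, 2), (33, 1), (36, 1), (37, 1)],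
  [(16, 1), (18, 2), (19, 1), (21, 1), (23, 3), (26, 1), (28, 1), (31, 1), (32, 1), (33, 1), (34, 1)],
  [(17, 2), (19, 1), (20, 1), (26, 1), (30, 2), (33, 1), (36, 1), (37, 1)],
  [(18, 2), (19, 1), (20, 1), (23, 2), (25, 1), (28, 1), (30, 2), (32, 1), (33, 1), (35, 1), (36, 1), (39, 1)],
  [(19, 1), (23, 2), (24, 1), (25, 1), (26, 1), (28, 1), (29, 1), (39, 1)],
  [(20, 1), (27, 1), (29, 1)],
  [(21, 1), (23, 2), (24, 1), (26, 1), (27, 1), (28, 1), (29, 1), (39, 1)],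
  [(22, 1), (27, 1), (29, 1)],
  [(23, 1), (24, 1), (25, 1), (26, 1), (28, 1), (30, 2), (31, 1), (32, 1), (35, 1)],
  [(24, 1), (25, 1), (27, 1), (28, 1), (30, 2), (31, 1), (32, 1), (33, 1), (35, 1), (36, 1), (39, 1)],
  [(25, 1), (26, 1), (27, 1), (31, 1), (32, 1)],
  [(27, 1), (28, 1), (31, 1), (33, 1), (39, 1)],
  [(28, 1), (29, 1), (30, 3), (32, 1), (35, 1), (39, 1)],
  [(30, 2), (32, 1), (33, 1), (36, 1), (39, 1)],
  [(31, 1), (33, 1), (37, 1), (39, 1)],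
  [(32, 1), (33, 1), (36, 1), (39, 1)],
  [(33, 1), (36, 1), (37, 1), (38, 1), (39, 1)],
  [(35, 1), (37, 1), (39, 1)]]

/-- Parity check columns, with the check completed at each position. -/
def cols : List (ℕ × ℕ) := [(112992655763, 0), (91344269133, 0), (43557938983, 0), (96119343097, 0), (19707085493, 0), (5474305131, 0), (97172148447, 0), (1, 1), (1011694614, 0), (647941134, 0), (704158234, 0), (2, 2), (858483228, 0), (4, 4), (8, 8), (16, 16), (129496908128, 0), (82936463584, 0), (90132251040, 0), (32, 32), (109885850048, 0), (64, 64), (128, 128), (256, 256), (65024, 0), (512, 512), (1024, 1024), (2048, 2048), (4096, 4096), (8192, 8192), (16384, 16384), (32768, 32768), (8323072, 0), (65536, 65536), (131072, 131072), (262144, 262144), (524288, 524288), (1048576, 1048576), (2097152, 2097152), (4194304, 4194304), (1065353216, 0), (8388608,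 8388608), (16777216, 16777216), (33554432, 33554432), (67108864, 67108864), (134217728, 134217728), (268435456, 268435456), (536870912, 536870912), (136365211648, 0), (1073741824, 1073741824), (2147483648, 2147483648), (4294967296, 4294967296), (8589934592, 8589934592), (17179869184, 17179869184), (34359738368, 34359738368), (68719476736, 68719476736)]

/-- For each component, rows detecting its sign patterns. -/
def blockRows : List (List ℕ) := [[7], [15], [0, 1, 2, 3, 4, 5, 6, 7], [0, 1, 2, 3, 4, 5, 7], [7], [12], [0, 1, 2, 3, 10]]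

end CfsgLib.H29.RuLattice
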