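import Cfsg.Agent.H29.RuLattice.Check

set_option autoImplicit false

/-!
No vector of norm eight in the lattice modulo four.
-/

namespace CfsgLib.H29.RuLattice

/-- Depth-first search over parity words of bounded weight. -/
def search (ok : List Bool → Bool) : List (ℕ × ℕ) → ℕ → ℕ → List Bool → Bool
  | [], _, _, w => ok w.reverse
  | (c, m) :: rest, k, s, w =>
    (if s &&& m == 0 then search ok rest k s (false :: w) else true) &&
      match k with
      | 0 => true
      | k + 1 => if (s ^^^ c) &&& m == 0 then search ok rest k (s ^^^ c) (true :: w) else true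

/-- The syndrome of a word. -/
def synF : List (ℕ × ℕ) → List Bool → ℕ
  | (c, _) :: rest, b :: bs => (if b then c else 0) ^^^ synF rest bs
  | _, _ => 0

/-- Every check is finished where it is pruned. -/
def wf : List (ℕ × ℕ) → Bool
  | [] => true
  | (_, m) :: rest => (rest.all fun p => p.1 &&& m == 0) && wf rest

theorem synF_and : ∀ (cs : List (ℕ × ℕ)) (bs : List Bool) (m : ℕ),
    (∀ p ∈ cs, p.1 &&& m = 0) → synF cs bs &&& m = 0
  | [], _, m, _ => by simp [synF]
  | (c, m') :: rest, [], m, _ => by simp [synF]
  | (c, m') :: rest, b :: bs, m, h => by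
    simp only [synF]
    rw [Nat.and_xor_distrib_right, synF_and rest bs m fun p hp => h p (List.mem_cons_of_mem _ hp)]
    cases b <;> simp [h (c, m') List.mem_cons_self]

theorem search_sound (ok : List Bool → Bool) : ∀ (cs : List (ℕ × ℕ)) (k s : ℕ) (w bs : List Bool),
    wf cs = true → bs.length = cs.length → bs.count true ≤ k → s ^^^ synF cs bs = 0 →
    search ok cs k s w = true → ok (w.reverse ++ bs) = true
  | [], k, s, w, [], _, _, _, _, h => by simpa [search] using h
  | [], _, _, _, _ :: _, _, hl, _, _, _ => by simp at hl
  | _ :: _, _, _, _, [], _, hl, _, _, _ => by simp at hl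
  | (c, m) :: rest, k, s, w, b :: bs, hwf, hl, hk, hs, h => by
    simp only [wf, Bool.and_eq_true, List.all_eq_true, beq_iff_eq] at hwf
    simp only [List.length_cons, Nat.add_right_cancel_iff] at hl
    simp only [synF] at hs
    have hm : (s ^^^ (if b then c else 0)) &&& m = 0 := by
      have := congrArg (· &&& m) hs
      simp only [Nat.zero_and] at this
      rwa [← Nat.xor_assoc, Nat.and_xor_distrib_right, synF_and rest bs m hwf.1, Nat.xor_zero] at this
    simp only [search, Bool.and_eq_true] at h
    rw [← Nat.xor_assoc] at hs
    cases b with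
    | false =>
      simp only [Bool.false_eq_true, if_false, Nat.xor_zero] at hm hs
      rw [if_pos (beq_iff_eq.2 hm)] at h
      have := search_sound ok rest k s (false :: w) bs hwf.2 hl (by simpa using hk) hs h.1
      simpa using this
    | true =>
      simp only [if_true] at hm hs
      cases k with
      | zero => simp at hk
      | succ k =>
        have h2 := h.2
        simp only at h2
        rw [if_pos (beq_iff_eq.2 hm)] at h2
        have := search_sound ok rest k (s ^^^ c) (true :: w) bs hwf.2 hl (by simpa using hk) hs h2
        simpa using this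

/-- Parities. -/
def parL (l : List ℤ) : List Bool := l.map fun x => x % 2 != 0

theorem count_parL_le : ∀ l : List ℤ, ((parL l).count true : ℤ) ≤ dotL l l
  | [] => by simp [parL, dotL]
  | x :: xs => by
    have ih := count_parL_le xs
    have hx : x % 2 ≠ 0 → 1 ≤ x * x := fun h => by
      rcases lt_trichotomy x 0 with h' | h' | h'
      · nlinarith
      · subst h'; simp at h
      · nlinarith
    simp only [parL, List.map_cons, dotL, List.count_cons, beq_iff_eq] at *
    by_cases h : x % 2 = 0
    · simp [h]; nlinarith [mul_self_nonneg x]
    · simp [h]; linarith [hx h]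

/-- All sign patterns of a parity word. -/
def signs : List Bool → List (List ℤ)
  | [] => [[]]
  | false :: bs => (signs bs).map (0 :: ·)
  | true :: bs => (signs bs).map (1 :: ·) ++ (signs bs).map ((-1) :: ·)

theorem mem_signs : ∀ l : List ℤ, dotL l l ≤ ((parL l).count true : ℤ) → l ∈ signs (parL l)
  | [], _ => by simp [parL, signs]
  | x :: xs, h => by
    have h1 := count_parL_le xs
    by_cases hx : x % 2 = 0
    · have e : parL (x :: xs) = false :: parL xs := by simp [parL, hx]
      rw [e] at h ⊢
      simp only [dotL, List.count_cons_of_ne (by decide : false ≠ true)] at h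
      obtain rfl : x = 0 := mul_self_eq_zero.1 (by nlinarith [mul_self_nonneg x])
      simp only [signs, List.mem_map, List.cons.injEq, true_and, exists_eq_right]
      exact mem_signs xs (by linarith)
    · have e : parL (x :: xs) = true :: parL xs := by simp [parL, hx]
      rw [e] at h ⊢
      simp only [dotL, List.count_cons_self, Nat.cast_add, Nat.cast_one] at h
      have hx0 : x ≠ 0 := by rintro rfl; simp at hx
      have hpos : 1 ≤ x * x := by
        rcases lt_or_gt_of_ne hx0 with h' | h' <;> nlinarith
      have hrest : dotL xs xs ≤ ((parL xs).count true : ℤ) := by linarith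
      have hx1 : x = 1 ∨ x = -1 := by
        refine mul_self_eq_mul_self_iff.1 ?_
        nlinarith
      simp only [signs, List.mem_append, List.mem_map]
      rcases hx1 with rfl | rfl
      · exact Or.inl ⟨xs, mem_signs xs hrest, rfl⟩
      · exact Or.inr ⟨xs, mem_signs xs hrest, rfl⟩

/-- The syndrome of the parities. -/
def phi (cs : List (ℕ × ℕ)) (l : List ℤ) : ℕ := synF cs (parL l)

theorem phi_add : ∀ (cs : List (ℕ × ℕ)) (a b : List ℤ), a.length = b.length →
    phi cs (addL a b) = phi cs a ^^^ phi cs b
  | [], a, b, _ => by simp [phi, synF]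
  | _ :: _, [], [], _ => by simp [phi, parL, synF, addL]
  | _ :: _, [], _ :: _, h => by simp at h
  | _ :: _, _ :: _, [], h => by simp at h
  | (c, m) :: cs, x :: a, y :: b, h => by
    have ih := phi_add cs a b (by simpa using h)
    simp only [phi, parL, addL, List.map_cons, synF] at ih ⊢
    rw [ih]
    have e : ((x + y) % 2 != 0) = xor (x % 2 != 0) (y % 2 != 0) := by
      rcases Int.emod_two_eq x with hx | hx <;> rcases Int.emod_two_eq y with hy | hy <;>
        simp [Int.add_emod, hx, hy]
    rw [e]
    cases (x % 2 != 0) <;> cases (y % 2 != 0) <;>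
      simp [Nat.xor_assoc, Nat.xor_comm, Nat.xor_left_comm]

theorem phi_map_even : ∀ (cs : List (ℕ × ℕ)) (c : ℤ) (l : List ℤ), c % 2 = 0 →
    phi cs (l.map (c * ·)) = 0
  | [], c, l, _ => by simp [phi, synF]
  | _ :: _, c, [], _ => by simp [phi, parL, synF]
  | (d, m) :: cs, c, x :: l, hc => by
    have ih := phi_map_even cs c l hc
    simp only [phi, parL, List.map_cons, List.map_map, synF] at ih ⊢
    simp [ih, Int.mul_emod, hc]

theorem phi_map_odd : ∀ (cs : List (ℕ × ℕ)) (c : ℤ) (l : List ℤ), c % 2 = 1 →
    phi cs (l.map (c * ·)) = phi cs l
  | [], c, l, _ => by simp [phi, synF]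
  | _ :: _, c, [], _ => by simp [phi, parL, synF]
  | (d, m) :: cs, c, x :: l, hc => by
    have ih := phi_map_odd cs c l hc
    simp only [phi, parL, List.map_cons, List.map_map, synF] at ih ⊢
    rcases Int.emod_two_eq x with hx | hx <;> simp [ih, Int.mul_emod, hc, hx]

theorem rows_phi : (rows.all fun r => phi cols r == 0) = true := by decide +kernel

theorem cols_length : cols.length = 56 := by decide +kernel

theorem cols_wf : wf cols = true := by decide +kernel

theorem M.phi_eq {l : List ℤ} (h : M l) : phi cols l = 0 := by
  induction h with
  | row r hr => exact beq_iff_eq.1 (List.all_eq_true.1 rows_phi r hr)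
  | zero => decide +kernel
  | add a b hA hB ha hb =>
    rw [phi_add _ _ _ (hA.length.trans hB.length.symm), ha, hb, Nat.xor_zero]
  | smul c a _ ha =>
    rcases Int.emod_two_eq c with hc | hc
    · exact phi_map_even _ c a hc
    · rw [phi_map_odd _ c a hc, ha]
  | four w _ => exact phi_map_even _ 4 w rfl

/-- The words of a single component. -/
def blockWord (n : ℕ) : List Bool := (List.range 56).map fun k => k / 8 == n

/-- The allowed parity words of a vector of norm eight. -/
def leafOK (w : List Bool) : Bool := w.all (· == false) || (List.range 7).any fun n => w == blockWord n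

theorem search_eight : search leafOK cols 8 0 [] = true := by decide +kernel

theorem block_check : ((List.range 7).all fun n => (signs (blockWord n)).all fun l =>
    (blockRows.getD n []).any fun i => decide (i < rows.length) &&
      dotL l (rows.getD i []) % 4 != 0) = true := by
  decide +kernel

/-- A word is trivial or has odd product with some row. -/
def pairOK (w : List Bool) : Bool :=
  w.all (· == false) || rows.any fun r => dotL (w.map fun b => if b then 1 else 0) r % 2 != 0

theorem search_two : search pairOK (List.replicate 56 (0, 0)) 2 0 [] = true := by decide +kernel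

theorem wf_zero : wf (List.replicate 56 (0, 0)) = true := by decide +kernel

theorem synF_zero : ∀ (n : ℕ) (bs : List Bool), synF (List.replicate n (0, 0)) bs = 0
  | 0, bs => by simp [synF]
  | n + 1, [] => by simp [List.replicate_succ, synF]
  | n + 1, b :: bs => by cases b <;> simp [List.replicate_succ, synF, synF_zero n bs]

theorem dotL_par : ∀ (w r : List ℤ),
    dotL w r % 2 = dotL ((parL w).map fun b => if b then 1 else 0) r % 2
  | [], r => by simp [parL]
  | _ :: _, [] => by simp [parL, dotL]
  | x :: xs, y :: ys => by
    have ih := dotL_par xs ys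
    simp only [parL, List.map_cons, dotL] at ih ⊢
    rcases Int.emod_two_eq x with hx | hx <;> simp [hx, Int.add_emod, Int.mul_emod, ih]

theorem M.dotL_ne_eight {l : List ℤ} (h : M l) : dotL l l ≠ 8 := by
  intro h8
  have hlen := h.length
  have hc : (parL l).count true ≤ 8 := by
    have := count_parL_le l; omega
  have hok := search_sound leafOK cols 8 0 [] (parL l) cols_wf
    (by rw [cols_length]; simpa [parL] using hlen) hc (by rw [Nat.zero_xor]; exact h.phi_eq)
    search_eight
  simp only [List.reverse_nil, List.nil_append, leafOK, Bool.or_eq_true, List.all_eq_true,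
    List.any_eq_true, List.mem_range, beq_iff_eq] at hok
  rcases hok with hz | ⟨n, hn, he⟩
  · obtain ⟨w, rfl⟩ : ∃ w : List ℤ, l = w.map (2 * ·) := by
      refine ⟨l.map (· / 2), ?_⟩
      rw [List.map_map]
      conv_lhs => rw [← List.map_id l]
      refine List.map_congr_left fun x hx => ?_
      have := hz (x % 2 != 0) (List.mem_map.2 ⟨x, hx, rfl⟩)
      simp only [bne_eq_false_iff_eq] at this
      simp only [id, Function.comp_apply]
      omega
    rw [dotL_smul, dotL_comm, dotL_smul] at h8
    have hc2 : (parL w).count true ≤ 2 := by
      have := count_parL_le w; omega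
    have hw : w.length = 56 := by simpa using hlen
    have hok := search_sound pairOK _ 2 0 [] (parL w) wf_zero (by simpa [parL] using hw) hc2
      (by rw [synF_zero, Nat.zero_xor]) search_two
    simp only [List.reverse_nil, List.nil_append, pairOK, Bool.or_eq_true, List.all_eq_true,
      List.any_eq_true, beq_iff_eq, bne_iff_ne] at hok
    rcases hok with hz2 | ⟨r, hr, hodd⟩
    · obtain ⟨v, rfl⟩ : ∃ v : List ℤ, w = v.map (2 * ·) := by
        refine ⟨w.map (· / 2), ?_⟩
        rw [List.map_map]
        conv_lhs => rw [← List.map_id w]
        refine List.map_congr_left fun x hx => ?_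
        have := hz2 (x % 2 != 0) (List.mem_map.2 ⟨x, hx, rfl⟩)
        simp only [bne_eq_false_iff_eq] at this
        simp only [id, Function.comp_apply]
        omega
      rw [dotL_smul, dotL_comm, dotL_smul] at h8
      omega
    · have := h.dot_row hr
      rw [dotL_smul] at this
      rw [← dotL_par] at hodd
      omega
  · have hb := List.all_eq_true.1 block_check n (List.mem_range.2 hn)
    have hmem := mem_signs l (by
      rw [he, h8]
      interval_cases n <;> decide +kernel)
    rw [he] at hmem
    obtain ⟨i, -, hi⟩ := List.any_eq_true.1 (List.all_eq_true.1 hb l hmem)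
    simp only [Bool.and_eq_true, decide_eq_true_eq, bne_iff_ne] at hi
    have hr : rows.getD i [] ∈ rows := by
      rw [List.getD_eq_getElem?_getD, List.getElem?_eq_getElem hi.1]
      exact List.getElem_mem hi.1
    exact hi.2 (Int.emod_eq_zero_of_dvd (h.dot_row hr))

theorem eq_zero_of_dotL : ∀ l : List ℤ, dotL l l = 0 → ∀ x ∈ l, x = 0
  | [], _, x, hx => by simp at hx
  | y :: ys, h, x, hx => by
    have h1 := count_parL_le ys
    simp only [dotL] at h
    have h0 : y * y = 0 := by nlinarith [mul_self_nonneg y]
    rcases List.mem_cons.1 hx with rfl | hx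
    · exact mul_self_eq_zero.1 h0
    · exact eq_zero_of_dotL ys (by linarith) x hx

end CfsgLib.H29.RuLattice
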