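import Cfsg.Prelude.Def_Spor_Ru
import Cfsg.Agent.H29.RuLattice.Minimum

set_option autoImplicit false

/-!
The Rudvalis lattice inside the lattice modulo four.
-/

namespace CfsgLib.H29.RuLattice

open Cfsg.Spor

/-- The index of a real coordinate. -/
def idx (k : Fin 56) : RuIdx :=
  (⟨k.val / 8, by omega⟩, ⟨k.val % 8 / 2, by omega⟩)

/-- A real coordinate. -/
def coord (x : RuVec) (k : Fin 56) : ℤ := if k.val % 2 = 0 then (x (idx k)).re else (x (idx k)).im

/-- The 56 real coordinates. -/
def toL (x : RuVec) : List ℤ := List.ofFn (coord x)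

theorem length_toL (x : RuVec) : (toL x).length = 56 := by simp [toL]

theorem toL_getD (x : RuVec) (k : Fin 56) : (toL x).getD k.val 0 = coord x k := by
  rw [List.getD_eq_getElem _ _ (by rw [length_toL]; exact k.2)]
  simp only [toL, List.getElem_ofFn]

theorem toL_add (x y : RuVec) : toL (x + y) = addL (toL x) (toL y) := by
  refine ext_getD _ _ (by rw [length_addL _ _ (by simp [length_toL])]; simp [length_toL]) fun k => ?_
  rw [getD_addL]
  by_cases hk : k < 56
  · rw [toL_getD _ ⟨k, hk⟩, toL_getD _ ⟨k, hk⟩, toL_getD _ ⟨k, hk⟩]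
    simp only [coord, Pi.add_apply]
    split <;> simp
  · simp [List.getD_eq_getElem?_getD, List.getElem?_eq_none, length_toL, Nat.not_lt.1 hk]

theorem toL_zero : toL 0 = List.replicate 56 0 := by
  refine List.ext_getElem (by simp [length_toL]) fun k h1 h2 => ?_
  simp [toL, coord]

theorem toL_neg (x : RuVec) : toL (-x) = (toL x).map ((-1) * ·) := by
  refine ext_getD _ _ (by simp [length_toL]) fun k => ?_
  rw [getD_map_mul]
  by_cases hk : k < 56
  · rw [toL_getD _ ⟨k, hk⟩, toL_getD _ ⟨k, hk⟩]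
    simp only [coord, Pi.neg_apply]
    split <;> simp
  · simp [List.getD_eq_getElem?_getD, List.getElem?_eq_none, length_toL, Nat.not_lt.1 hk]

/-- Vectors whose coordinates lie in the lattice modulo four. -/
def Mset : AddSubgroup RuVec where
  carrier := {x | M (toL x)}
  zero_mem' := by
    show M (toL 0)
    rw [toL_zero]; exact M.zero
  add_mem' := fun {a b} ha hb => by
    show M (toL (a + b))
    rw [toL_add]; exact M.add _ _ ha hb
  neg_mem' := fun {a} ha => by
    show M (toL (-a))
    rw [toL_neg]; exact M.smul (-1) _ ha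

theorem permL_toL {P : List (ℕ × Bool)} (hP : P.length = 56) (hb : ∀ e ∈ P, e.1 < 56)
    (x y : RuVec)
    (h : ∀ k : Fin 56, ∀ e, P[k.val]? = some e →
      coord y k = if e.2 then -(coord x (Fin.ofNat 56 e.1)) else coord x (Fin.ofNat 56 e.1)) :
    toL y = permL P (toL x) := by
  refine ext_getD _ _ (by simp [length_toL, permL, hP]) fun k => ?_
  rw [getD_permL]
  by_cases hk : k < 56
  · have hk' : k < P.length := by omega
    rw [dif_pos hk', toL_getD _ ⟨k, hk⟩, h ⟨k, hk⟩ P[k] (List.getElem?_eq_getElem hk')]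
    have hj : (P[k]).1 < 56 := hb _ (List.getElem_mem hk')
    have e : Fin.ofNat 56 (P[k]).1 = (⟨(P[k]).1, hj⟩ : Fin 56) := Fin.ext (Nat.mod_eq_of_lt hj)
    rw [e, toL_getD x ⟨_, hj⟩]
  · rw [dif_neg (by omega)]
    exact List.getD_eq_default _ _ (by rw [length_toL]; omega)

set_option maxHeartbeats 2000000

theorem toL_gI (x : RuVec) : toL (gI • x) = permL permI (toL x) := by
  refine permL_toL (by decide +kernel) (by decide +kernel) x _ fun k e he => ?_
  fin_cases k <;> simp [permI] at he <;> subst he <;> simp [coord, idx, gI, Zsqrtd.re_mul, Zsqrtd.im_mul]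

theorem toL_ruRj (x : RuVec) : toL (ruRj x) = permL permJ (toL x) := by
  refine permL_toL (by decide +kernel) (by decide +kernel) x _ fun k e he => ?_
  fin_cases k <;> simp [permJ] at he <;> subst he <;> simp [coord, idx, ruRj, gI, Zsqrtd.re_mul, Zsqrtd.im_mul]

theorem toL_ruRk (x : RuVec) : toL (ruRk x) = permL permK (toL x) := by
  refine permL_toL (by decide +kernel) (by decide +kernel) x _ fun k e he => ?_
  fin_cases k <;> simp [permK] at he <;> subst he <;> simp [coord, idx, ruRk, gI, Zsqrtd.re_mul, Zsqrtd.im_mul]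

theorem toL_ruSign (x : RuVec) : toL (ruSign x) = permL permS (toL x) := by
  refine permL_toL (by decide +kernel) (by decide +kernel) x _ fun k e he => ?_
  fin_cases k <;> simp [permS] at he <;> subst he <;> simp [coord, idx, ruSign]

theorem toL_ruShift (x : RuVec) : toL (ruShift x) = permL permH (toL x) := by
  refine permL_toL (by decide +kernel) (by decide +kernel) x _ fun k e he => ?_
  fin_cases k <;> simp [permH] at he <;> subst he <;> simp [coord, idx, ruShift]

theorem table_check : ((ruTable.map toL).zip tableCert).all (fun rc => eq4 rc.1 (comb rc.2) &&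
    rc.2.all fun c => decide (c.1 < rows.length)) = true ∧ tableCert.length = ruTable.length := by
  decide +kernel

theorem ruLattice_le : ruLattice ≤ Mset := by
  refine sInf_le ⟨fun v hv => ?_, fun v hv => ?_⟩
  · obtain ⟨h, hlen⟩ := table_check
    obtain ⟨i, hi, rfl⟩ := List.getElem_of_mem hv
    have hmem : (toL ruTable[i], tableCert[i]'(hlen ▸ hi)) ∈ (ruTable.map toL).zip tableCert := by
      rw [List.mem_iff_getElem]
      exact ⟨i, by simp [hlen, hi], by rw [List.getElem_zip, List.getElem_map]; rfl⟩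
    have := List.all_eq_true.1 h _ hmem
    rw [Bool.and_eq_true, List.all_eq_true] at this
    exact (M_comb _ fun c hc => of_decide_eq_true (this.2 c hc)).of_eq4 this.1
  · refine ⟨?_, ?_, ?_, ?_, ?_⟩
    · show M (toL _); rw [toL_gI]; exact M.perm checkI hv
    · show M (toL _); rw [toL_ruRj]; exact M.perm checkJ hv
    · show M (toL _); rw [toL_ruRk]; exact M.perm checkK hv
    · show M (toL _); rw [toL_ruSign]; exact M.perm checkS hv
    · show M (toL _); rw [toL_ruShift]; exact M.perm checkH hv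

theorem dotL_ofFn : ∀ {n : ℕ} (f g : Fin n → ℤ), dotL (List.ofFn f) (List.ofFn g) = ∑ k, f k * g k
  | 0, f, g => by simp [dotL]
  | n + 1, f, g => by rw [List.ofFn_succ, List.ofFn_succ, dotL, dotL_ofFn, Fin.sum_univ_succ]

theorem ruNorm_eq (x : RuVec) : ruNorm x = dotL (toL x) (toL x) := by
  rw [toL, dotL_ofFn, ruNorm, Fintype.sum_prod_type]
  simp only [Fin.sum_univ_succ, Fin.sum_univ_zero, Fintype.sum_empty, add_zero]
  simp [coord, idx, Zsqrtd.norm]
  ring

theorem eq_zero_of_ruNorm {x : RuVec} (h : ruNorm x = 0) : x = 0 := by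
  rw [ruNorm_eq] at h
  funext p
  have hall := eq_zero_of_dotL _ h
  have hc : ∀ k, coord x k = 0 := fun k => hall _ (List.mem_ofFn.2 ⟨k, rfl⟩)
  obtain ⟨a, b⟩ := p
  have h0 := hc ⟨8 * a.val + 2 * b.val, by omega⟩
  have h1 := hc ⟨8 * a.val + 2 * b.val + 1, by omega⟩
  have e0 : idx ⟨8 * a.val + 2 * b.val, by omega⟩ = (a, b) := by
    simp only [idx, Prod.mk.injEq, Fin.ext_iff]; omega
  have e1 : idx ⟨8 * a.val + 2 * b.val + 1, by omega⟩ = (a, b) := by
    simp only [idx, Prod.mk.injEq, Fin.ext_iff]; omega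
  simp only [coord, e0] at h0
  simp only [coord, e1] at h1
  rw [if_pos (by omega)] at h0
  rw [if_neg (by omega)] at h1
  exact Zsqrtd.ext h0 h1

theorem main : (∀ x ∈ ruLattice, (8 : ℤ) ∣ ruNorm x) ∧ (∀ x ∈ ruLattice, ruNorm x ≠ 8) ∧
    (∀ x ∈ ruLattice, x ≠ 0 → 16 ≤ ruNorm x) ∧ ∃ x ∈ ruLattice, ruNorm x = 16 := by
  have hd : ∀ x ∈ ruLattice, (8 : ℤ) ∣ ruNorm x := fun x hx => by
    rw [ruNorm_eq]; exact (show M (toL x) from ruLattice_le hx).norm_dvd
  have h8 : ∀ x ∈ ruLattice, ruNorm x ≠ 8 := fun x hx => by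
    rw [ruNorm_eq]; exact (show M (toL x) from ruLattice_le hx).dotL_ne_eight
  refine ⟨hd, h8, fun x hx hx0 => ?_, ?_⟩
  · have h1 := hd x hx
    have h2 := h8 x hx
    have h3 : ruNorm x ≠ 0 := fun e => hx0 (eq_zero_of_ruNorm e)
    have h4 : 0 ≤ ruNorm x := Finset.sum_nonneg fun p _ => GaussianInt.norm_nonneg _
    omega
  · have hl : 0 < ruTable.length := by decide +kernel
    refine ⟨ruTable[0]'hl, ?_, ?_⟩
    · rw [ruLattice, AddSubgroup.mem_sInf]
      exact fun L hL => hL.1 _ (List.getElem_mem hl)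
    · rw [ruNorm_eq]
      show dotL (toL (ruTable.getD 0 0)) (toL (ruTable.getD 0 0)) = 16
      decide +kernel

end CfsgLib.H29.RuLattice
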